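import Cfsg.Agent.Lib.LyMat14.Rho

/-!
Consequences of the representation: orders of three elements, non-triviality, and five elements
outside the subgroup generated by a, b, c, d.
-/

set_option autoImplicit false

namespace Cfsg.Agent.Lib.LyMat14

open Cfsg.Spor

/-- a generator in the presented group -/
def lyOf (g : Ly.Gen) : Cfsg.Spor.Ly := PresentedGroup.of g

/-- the letters as elements of the presented group -/
def preLetter : ℕ → Cfsg.Spor.Ly
  | 0 => lyOf .a
  | 1 => (lyOf .a)⁻¹
  | 2 => lyOf .b
  | 3 => (lyOf .b)⁻¹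
  | 4 => lyOf .c
  | 5 => (lyOf .c)⁻¹
  | 6 => lyOf .d
  | 7 => (lyOf .d)⁻¹
  | 8 => lyOf .z
  | 9 => (lyOf .z)⁻¹
  | _ => 1

/-- a word as an element of the presented group -/
def preW (w : List ℕ) : Cfsg.Spor.Ly := (w.map preLetter).prod

theorem rho_letter {k : ℕ} (hk : k < 10) : rho (preLetter k) = unit ly_good k := by
  have h (g : Ly.Gen) (m : ℕ) (e : img g = [m]) : rho (lyOf g) = unit ly_good m := by
    rw [lyOf, rho_of, e]; simp [wunit]
  have hi (j i : ℕ) (hj : j < 10) (e : lyInv.getD j 0 = i) :
      (unit ly_good j)⁻¹ = unit ly_good i := by rw [← e, unit_invLetter hj]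
  match k, hk with
  | 0, _ => exact h .a 0 rfl
  | 1, _ => rw [preLetter, map_inv, h .a 0 rfl, hi 0 1 (by norm_num) rfl]
  | 2, _ => exact h .b 2 rfl
  | 3, _ => rw [preLetter, map_inv, h .b 2 rfl, hi 2 3 (by norm_num) rfl]
  | 4, _ => exact h .c 4 rfl
  | 5, _ => rw [preLetter, map_inv, h .c 4 rfl, hi 4 5 (by norm_num) rfl]
  | 6, _ => exact h .d 6 rfl
  | 7, _ => rw [preLetter, map_inv, h .d 6 rfl, hi 6 7 (by norm_num) rfl]
  | 8, _ => exact h .z 8 rfl
  | 9, _ => rw [preLetter, map_inv, h .z 8 rfl, hi 8 9 (by norm_num) rfl]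
  | j + 10, hj => omega

theorem rho_preW : ∀ {w : List ℕ}, (w.all fun k => Nat.blt k 10) = true →
    rho (preW w) = wunit ly_good w
  | [], _ => by simp [preW, wunit]
  | k :: w, h => by
    simp only [List.all_cons, Bool.and_eq_true, Nat.blt_eq] at h
    have ih := rho_preW (w := w) h.2
    simp only [preW, wunit, List.map_cons, List.prod_cons, map_mul] at ih ⊢
    rw [ih, rho_letter h.1]

theorem rho_a_ne_one : rho (lyOf .a) ≠ 1 := by
  have h := wunit_ne ly_good (w := img .a) (v := []) (by decide +kernel)
  rw [lyOf, rho_of]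
  simpa [wunit] using h

theorem order_of_checks {p : ℕ} (hp : p.Prime) {w : List ℕ}
    (hb : (w.all fun k => Nat.blt k 10) = true)
    (h1 : wordEq 111 lyGens (List.replicate p w).flatten [] = true)
    (h2 : wordNe 111 lyGens w [] = true) :
    orderOf (rho (preW w)) = p := by
  have : Fact p.Prime := ⟨hp⟩
  rw [rho_preW hb]
  refine orderOf_eq_prime ?_ ?_
  · have h := wunit_eq ly_good h1
    simpa [wunit, List.map_flatten, List.prod_flatten] using h
  · have h := wunit_ne ly_good h2
    simpa [wunit] using h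

theorem orderOf_word11 : orderOf (rho (preW word11)) = 11 :=
  order_of_checks (by norm_num) (by decide +kernel) (by decide +kernel) (by decide +kernel)

theorem orderOf_word37 : orderOf (rho (preW word37)) = 37 :=
  order_of_checks (by norm_num) (by decide +kernel) (by decide +kernel) (by decide +kernel)

theorem orderOf_word67 : orderOf (rho (preW word67)) = 67 :=
  order_of_checks (by norm_num) (by decide +kernel) (by decide +kernel) (by decide +kernel)

theorem exists_rho_order : ∀ p ∈ [11, 37, 67], ∃ g : Cfsg.Spor.Ly, orderOf (rho g) = p := by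
  simp only [List.mem_cons, List.not_mem_nil, or_false, forall_eq_or_imp, forall_eq]
  exact ⟨⟨_, orderOf_word11⟩, ⟨_, orderOf_word37⟩, ⟨_, orderOf_word67⟩⟩

/-- units mapping the row space of a matrix into itself -/
def keeps (C : Matrix (Fin 111) (Fin 111) (ZMod 5)) : Subgroup (MatUnits 111) where
  carrier := {g | ∃ M, C * (g : Matrix (Fin 111) (Fin 111) (ZMod 5)) = M * C}
  one_mem' := ⟨1, by simp⟩
  mul_mem' := by
    rintro a b ⟨M, hM⟩ ⟨N, hN⟩
    exact ⟨M * N, by rw [Units.val_mul, ← mul_assoc, hM, mul_assoc, hN, mul_assoc]⟩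
  inv_mem' := by
    rintro a ⟨M, hM⟩
    obtain ⟨k, hk⟩ : ∃ k : ℕ, a ^ k = a⁻¹ := by
      have h := (isOfFinOrder_of_finite a).mem_powers_iff_mem_zpowers.2
        (Subgroup.inv_mem _ (Subgroup.mem_zpowers a))
      exact h
    refine ⟨M ^ k, ?_⟩
    rw [← hk, Units.val_pow_eq_pow_val]
    clear hk
    induction k with
    | zero => simp
    | succ k ih => rw [pow_succ, ← mul_assoc, ih, mul_assoc, hM, ← mul_assoc, ← pow_succ]

theorem all_prefix {w : List ℕ} (h : (w.all fun k => Nat.blt k 10) = true) :
    wmat 111 lyAll w = (wunit ly_good w : Matrix (Fin 111) (Fin 111) (ZMod 5)) := by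
  rw [coe_wunit ly_good (show wordGood lyGens w = true from h)]
  unfold wmat
  congr 1
  refine List.map_congr_left fun k hk => ?_
  have hlen : lyGens.length = 10 := rfl
  have hk' : k < lyGens.length := by
    rw [hlen]; simpa [Nat.blt_eq] using List.all_eq_true.1 h k hk
  rw [gen, gen, lyAll, List.getD_append _ _ _ _ hk']

theorem closure_le_keeps : Subgroup.closure
    ({rho (lyOf .a), rho (lyOf .b), rho (lyOf .c), rho (lyOf .d)} : Set (MatUnits 111)) ≤
      keeps (matOf 111 subC) := by
  have key (k m : ℕ) (hk : k < 10) (e : wordEq 111 lyAll [10, k] [m, 10] = true) :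
      unit ly_good k ∈ keeps (matOf 111 subC) := by
    have h := wmat_eq (by norm_num) all_good e
    refine ⟨matOf 111 (gen lyAll m), ?_⟩
    have hu := all_prefix (w := [k]) (by simp [Nat.blt_eq, hk])
    simp only [wmat, wunit, List.map_cons, List.map_nil, List.prod_cons, List.prod_nil, mul_one] at h hu
    rw [← hu]
    exact h
  rw [Subgroup.closure_le]
  rintro x (rfl | rfl | rfl | rfl)
  · rw [SetLike.mem_coe, ← show preLetter 0 = lyOf .a from rfl, rho_letter (by norm_num)]
    exact key 0 12 (by norm_num) (by decide +kernel)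
  · rw [SetLike.mem_coe, ← show preLetter 2 = lyOf .b from rfl, rho_letter (by norm_num)]
    exact key 2 13 (by norm_num) (by decide +kernel)
  · rw [SetLike.mem_coe, ← show preLetter 4 = lyOf .c from rfl, rho_letter (by norm_num)]
    exact key 4 14 (by norm_num) (by decide +kernel)
  · rw [SetLike.mem_coe, ← show preLetter 6 = lyOf .d from rfl, rho_letter (by norm_num)]
    exact key 6 15 (by norm_num) (by decide +kernel)

theorem notMem_of_checks {w : List ℕ} (f : ℕ) (hb : (w.all fun k => Nat.blt k 10) = true)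
    (h0 : wordEq 111 lyAll [10, f] [11] = true)
    (h1 : wordNe 111 lyAll ([10] ++ w ++ [f]) [11] = true) :
    rho (preW w) ∉ Subgroup.closure
      ({rho (lyOf .a), rho (lyOf .b), rho (lyOf .c), rho (lyOf .d)} : Set (MatUnits 111)) := by
  intro hm
  obtain ⟨M, hM⟩ := closure_le_keeps hm
  rw [rho_preW hb, ← all_prefix hb] at hM
  refine wmat_ne (by norm_num) all_good h1 ?_
  have hz : matOf 111 zero = 0 := by
    ext i k
    have : (List.range 111).all (fun i => Nat.beq (zero.getD i 0) 0) = true := by decide +kernel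
    have hi := Nat.eq_of_beq_eq_true (List.all_eq_true.1 this i (List.mem_range.2 i.2))
    show (lane (zero.getD i 0) k : ZMod 5) = 0
    rw [hi]
    simp [lane, Nat.shiftRight_eq_div_pow]
  have e0 := wmat_eq (by norm_num) all_good h0
  have e10 : gen lyAll 10 = subC := rfl
  have e11 : gen lyAll 11 = zero := rfl
  simp only [wmat, List.map_append, List.map_cons, List.map_nil, List.prod_append, List.prod_cons,
    List.prod_nil, mul_one, e10, e11] at e0 hM ⊢
  rw [hM, mul_assoc, e0, hz, Matrix.mul_zero]

theorem rho_move0_notMem : rho (preW move0) ∉ Subgroup.closure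
    ({rho (lyOf .a), rho (lyOf .b), rho (lyOf .c), rho (lyOf .d)} : Set (MatUnits 111)) :=
  notMem_of_checks 16 (by decide +kernel) (by decide +kernel) (by decide +kernel)

theorem rho_move1_notMem : rho (preW move1) ∉ Subgroup.closure
    ({rho (lyOf .a), rho (lyOf .b), rho (lyOf .c), rho (lyOf .d)} : Set (MatUnits 111)) :=
  notMem_of_checks 17 (by decide +kernel) (by decide +kernel) (by decide +kernel)

theorem rho_move2_notMem : rho (preW move2) ∉ Subgroup.closure
    ({rho (lyOf .a), rho (lyOf .b), rho (lyOf .c), rho (lyOf .d)} : Set (MatUnits 111)) :=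
  notMem_of_checks 18 (by decide +kernel) (by decide +kernel) (by decide +kernel)

theorem rho_move3_notMem : rho (preW move3) ∉ Subgroup.closure
    ({rho (lyOf .a), rho (lyOf .b), rho (lyOf .c), rho (lyOf .d)} : Set (MatUnits 111)) :=
  notMem_of_checks 19 (by decide +kernel) (by decide +kernel) (by decide +kernel)

theorem rho_move4_notMem : rho (preW move4) ∉ Subgroup.closure
    ({rho (lyOf .a), rho (lyOf .b), rho (lyOf .c), rho (lyOf .d)} : Set (MatUnits 111)) :=
  notMem_of_checks 20 (by decide +kernel) (by decide +kernel) (by decide +kernel)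

end Cfsg.Agent.Lib.LyMat14
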