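import Cfsg.Agent.Lib.LyMat14.Word

/-!
Invertible packed generators, and the order of a group built from a normalising chain.
-/

set_option autoImplicit false

namespace Cfsg.Agent.Lib.LyMat14

variable {n : ℕ}

/-- the multiplicative group of matrices -/
abbrev MatUnits (n : ℕ) : Type := (Matrix (Fin n) (Fin n) (ZMod 5))ˣ

/-- every generator has the listed inverse -/
def invGood (n : ℕ) (gens : List (List ℕ)) (inv : List ℕ) : Bool :=
  inv.length == gens.length && (List.range gens.length).all fun k =>
    wordEq n gens [k, inv.getD k 0] [] && wordEq n gens [inv.getD k 0, k] []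

/-- the data needed to read words in the group of matrices -/
structure Good (n : ℕ) (gens : List (List ℕ)) (inv : List ℕ) : Prop where
  le : n ≤ 128
  gens_good : gensGood n gens = true
  inv_good : invGood n gens inv = true

theorem inv_mul {gens : List (List ℕ)} {inv : List ℕ} (h : Good n gens inv) {k : ℕ}
    (hk : k < gens.length) :
    matOf n (gen gens k) * matOf n (gen gens (inv.getD k 0)) = 1 ∧
      matOf n (gen gens (inv.getD k 0)) * matOf n (gen gens k) = 1 := by
  have hi := h.inv_good
  simp only [invGood, Bool.and_eq_true, List.all_eq_true, List.mem_range] at hi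
  obtain ⟨h1, h2⟩ := hi.2 k hk
  exact ⟨by simpa [wmat] using wmat_eq h.le h.gens_good h1,
    by simpa [wmat] using wmat_eq h.le h.gens_good h2⟩

/-- generator as a unit -/
def unit {gens : List (List ℕ)} {inv : List ℕ} (h : Good n gens inv) (k : ℕ) : MatUnits n :=
  if hk : k < gens.length then
    ⟨_, _, (inv_mul h hk).1, (inv_mul h hk).2⟩
  else 1

/-- value of a word -/
def wunit {gens : List (List ℕ)} {inv : List ℕ} (h : Good n gens inv) (w : List ℕ) : MatUnits n :=
  (w.map (unit h)).prod

theorem wunit_append {gens : List (List ℕ)} {inv : List ℕ} (h : Good n gens inv) (w v : List ℕ) :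
    wunit h (w ++ v) = wunit h w * wunit h v := by simp [wunit]

theorem coe_wunit {gens : List (List ℕ)} {inv : List ℕ} (h : Good n gens inv) :
    ∀ {w : List ℕ}, wordGood gens w = true →
      (wunit h w : Matrix (Fin n) (Fin n) (ZMod 5)) = wmat n gens w
  | [], _ => rfl
  | k :: w, hw => by
    simp only [wordGood, List.all_cons, Bool.and_eq_true, Nat.blt_eq] at hw
    have ih := coe_wunit h (w := w) hw.2
    simp only [wunit, wmat, List.map_cons, List.prod_cons, Units.val_mul] at ih ⊢
    rw [ih, unit, dif_pos hw.1]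

theorem wordGood_of_eq {gens : List (List ℕ)} {w v : List ℕ} (h : wordEq n gens w v = true) :
    wordGood gens w = true ∧ wordGood gens v = true := by
  simp only [wordEq, Bool.and_eq_true] at h
  exact h.1

theorem wunit_eq {gens : List (List ℕ)} {inv : List ℕ} (h : Good n gens inv) {w v : List ℕ}
    (e : wordEq n gens w v = true) : wunit h w = wunit h v := by
  obtain ⟨hw, hv⟩ := wordGood_of_eq e
  exact Units.ext (by rw [coe_wunit h hw, coe_wunit h hv, wmat_eq h.le h.gens_good e])

theorem wunit_ne {gens : List (List ℕ)} {inv : List ℕ} (h : Good n gens inv) {w v : List ℕ}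
    (e : wordNe n gens w v = true) : wunit h w ≠ wunit h v := by
  intro he
  have e' := e
  simp only [wordNe, Bool.and_eq_true] at e'
  have := congrArg (fun u : MatUnits n => (u : Matrix (Fin n) (Fin n) (ZMod 5))) he
  simp only [coe_wunit h e'.1.1, coe_wunit h e'.1.2] at this
  exact wmat_ne h.le h.gens_good e this

/-- the matrices fixing a vector -/
def fixing (x : Fin n → ZMod 5) : Subgroup (MatUnits n) where
  carrier := {g | Matrix.vecMul x (g : Matrix (Fin n) (Fin n) (ZMod 5)) = x}
  one_mem' := by simp
  mul_mem' := by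
    intro a b ha hb
    simp only [Set.mem_ofPred_eq, Units.val_mul] at ha hb ⊢
    rw [← Matrix.vecMul_vecMul, ha, hb]
  inv_mem' := by
    intro a ha
    simp only [Set.mem_ofPred_eq] at ha ⊢
    conv_lhs => rw [← ha]
    rw [Matrix.vecMul_vecMul, Units.mul_inv, Matrix.vecMul_one]

theorem mem_fixing {gens : List (List ℕ)} {inv : List ℕ} (h : Good n gens inv) {w : List ℕ} {v : ℕ}
    (e : vecFixed n gens w v = true) : wunit h w ∈ fixing (vecOf n v) := by
  have e' := e
  simp only [vecFixed, Bool.and_eq_true] at e'
  show Matrix.vecMul _ _ = _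
  rw [coe_wunit h e'.1.1]
  exact vecMul_fixed h.le h.gens_good e

theorem notMem_fixing {gens : List (List ℕ)} {inv : List ℕ} (h : Good n gens inv) {w : List ℕ}
    {v : ℕ} (e : vecMoved n gens w v = true) : wunit h w ∉ fixing (vecOf n v) := by
  have e' := e
  simp only [vecMoved, Bool.and_eq_true] at e'
  intro hm
  have hm' : Matrix.vecMul (vecOf n v) (wunit h w : Matrix (Fin n) (Fin n) (ZMod 5)) = vecOf n v := hm
  rw [coe_wunit h e'.1.1] at hm'
  exact vecMul_moved h.le h.gens_good e hm'

/-- prime-order extensions along a normalising chain -/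
theorem card_closure_chain {G : Type*} [Group G] [Finite G] (p : ℕ) [Fact p.Prime] (g : ℕ → G) :
    ∀ k, (∀ i < k, g i ^ p ∈ Subgroup.closure (g '' Set.Iio i)) →
      (∀ i < k, ∀ j < i, g i * g j * (g i)⁻¹ ∈ Subgroup.closure (g '' Set.Iio i)) →
      (∀ i < k, g i ∉ Subgroup.closure (g '' Set.Iio i)) →
      Nat.card (Subgroup.closure (g '' Set.Iio k)) = p ^ k := by
  intro k
  induction k with
  | zero =>
    intro _ _ _
    simp
  | succ k ih =>
    intro h1 h2 h3
    set P := Subgroup.closure (g '' Set.Iio k) with hP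
    have hih : Nat.card P = p ^ k :=
      ih (fun i hi => h1 i (by omega)) (fun i hi => h2 i (by omega)) (fun i hi => h3 i (by omega))
    set H := Subgroup.closure (g '' Set.Iio (k + 1)) with hH
    have hPH : P ≤ H := Subgroup.closure_mono (Set.image_mono (Set.Iio_subset_Iio (by omega)))
    have hgH : g k ∈ H :=
      Subgroup.subset_closure ⟨k, Set.mem_Iio.2 (Nat.lt_succ_self k), rfl⟩
    have hmap : P.map (MulAut.conj (g k)).toMonoidHom = P := by
      refine Subgroup.eq_of_le_of_card_ge ?_ ?_
      · rw [hP, MonoidHom.map_closure, Subgroup.closure_le]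
        rintro _ ⟨_, ⟨j, hj, rfl⟩, rfl⟩
        exact h2 k (by omega) j hj
      · rw [Nat.card_congr (P.equivMapOfInjective (MulAut.conj (g k)).toMonoidHom
          (MulAut.conj (g k)).injective).toEquiv]
    have hgn : g k ∈ Subgroup.normalizer (P : Set G) := by
      rw [Subgroup.mem_normalizer_iff]
      intro x
      conv_rhs => rw [← hmap]
      rw [Subgroup.mem_map_equiv]
      simp [mul_assoc]
    have hnorm : H ≤ Subgroup.normalizer (P : Set G) := by
      rw [hH, Subgroup.closure_le]
      rintro _ ⟨i, hi, rfl⟩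
      rcases Nat.lt_succ_iff_lt_or_eq.1 hi with h | rfl
      · exact Subgroup.le_normalizer (Subgroup.subset_closure ⟨i, h, rfl⟩)
      · exact hgn
    have : (P.subgroupOf H).Normal := Subgroup.normal_subgroupOf_of_le_normalizer hnorm
    set q := (QuotientGroup.mk' (P.subgroupOf H)) ⟨g k, hgH⟩ with hq
    have hord : orderOf q = p := by
      refine orderOf_eq_prime ?_ ?_
      · rw [hq, ← map_pow, QuotientGroup.mk'_apply, QuotientGroup.eq_one_iff,
          Subgroup.mem_subgroupOf]
        exact h1 k (by omega)
      · rw [hq, QuotientGroup.mk'_apply, Ne, QuotientGroup.eq_one_iff, Subgroup.mem_subgroupOf]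
        exact h3 k (by omega)
    have htop : Subgroup.zpowers q = ⊤ := by
      rw [eq_top_iff]
      rintro x -
      obtain ⟨⟨y, hy⟩, rfl⟩ := QuotientGroup.mk'_surjective (P.subgroupOf H) x
      have key : H ≤ ((Subgroup.zpowers q).comap (QuotientGroup.mk' (P.subgroupOf H))).map H.subtype := by
        conv_lhs => rw [hH]
        rw [Subgroup.closure_le]
        rintro _ ⟨i, hi, rfl⟩
        rcases Nat.lt_succ_iff_lt_or_eq.1 hi with h | rfl
        · have hiP : g i ∈ P := Subgroup.subset_closure ⟨i, h, rfl⟩
          refine ⟨⟨g i, hPH hiP⟩, ?_, rfl⟩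
          rw [SetLike.mem_coe, Subgroup.mem_comap, QuotientGroup.mk'_apply, (QuotientGroup.eq_one_iff _).2 (Subgroup.mem_subgroupOf.2 hiP)]
          exact one_mem _
        · exact ⟨⟨g i, hgH⟩, Subgroup.mem_zpowers q, rfl⟩
      obtain ⟨z, hz, he⟩ := key hy
      have : z = ⟨y, hy⟩ := Subtype.ext he
      rw [← this]
      exact hz
    rw [Subgroup.card_eq_card_quotient_mul_card_subgroup (P.subgroupOf H),
      Nat.card_congr (Subgroup.subgroupOfEquivOfLe hPH).toEquiv, hih, ← Subgroup.card_top,
      ← htop, Nat.card_zpowers, hord, pow_succ']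

end Cfsg.Agent.Lib.LyMat14
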