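import Mathlib

/-!
Arrays of sixteen-bit lanes stored in a natural number, with lane-wise reduction modulo five.
-/

set_option autoImplicit false

namespace Cfsg.Agent.Lib.LyMat14

/-- the number with `N` lanes `f` -/
def lanes : ℕ → (ℕ → ℕ) → ℕ
  | 0, _ => 0
  | N + 1, f => lanes N f + 2 ^ (16 * N) * f N

theorem lanes_lt : ∀ N f, (∀ t < N, f t < 65536) → lanes N f < 2 ^ (16 * N)
  | 0, _, _ => by simp [lanes]
  | N + 1, f, h => by
    have h1 := lanes_lt N f fun t ht => h t (by omega)
    have h2 : 2 ^ (16 * N) * (f N + 1) ≤ 2 ^ (16 * N) * 65536 :=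
      Nat.mul_le_mul_left _ (h N (by omega))
    rw [show 16 * (N + 1) = 16 * N + 16 from by ring, pow_add, lanes]
    have h3 : (2 : ℕ) ^ 16 = 65536 := by norm_num
    rw [h3]
    nlinarith

theorem lanes_congr : ∀ N {f g : ℕ → ℕ}, (∀ t < N, f t = g t) → lanes N f = lanes N g
  | 0, _, _, _ => rfl
  | N + 1, f, g, h => by
    simp [lanes, lanes_congr N fun t ht => h t (by omega), h N (by omega)]

theorem lanes_add : ∀ N (f g : ℕ → ℕ), lanes N (fun t => f t + g t) = lanes N f + lanes N g
  | 0, _, _ => rfl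
  | N + 1, f, g => by simp [lanes, lanes_add N f g]; ring

theorem lanes_const_mul : ∀ N c (f : ℕ → ℕ), lanes N (fun t => c * f t) = c * lanes N f
  | 0, _, _ => by simp [lanes]
  | N + 1, c, f => by simp [lanes, lanes_const_mul N c f]; ring

theorem lanes_sub (N : ℕ) (f g : ℕ → ℕ) (h : ∀ t < N, g t ≤ f t) :
    lanes N f - lanes N g = lanes N (fun t => f t - g t) := by
  have : lanes N (fun t => f t - g t + g t) = lanes N f :=
    lanes_congr N fun t ht => Nat.sub_add_cancel (h t ht)
  rw [lanes_add] at this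
  omega

theorem testBit_lanes : ∀ N f, (∀ t < N, f t < 65536) → ∀ u,
    (lanes N f).testBit u = (decide (u / 16 < N) && (f (u / 16)).testBit (u % 16))
  | 0, _, _, u => by simp [lanes]
  | N + 1, f, h, u => by
    have hlt := lanes_lt N f fun t ht => h t (by omega)
    rw [lanes, Nat.add_comm, Nat.testBit_two_pow_mul_add _ hlt,
      testBit_lanes N f (fun t ht => h t (by omega))]
    by_cases hu : u < 16 * N
    · have h1 : u / 16 < N := by omega
      simp [hu, h1, show u / 16 < N + 1 by omega]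
    · rw [if_neg hu]
      by_cases hu2 : u / 16 < N + 1
      · have hq : u / 16 = N := by omega
        simp [hq, show u % 16 = u - 16 * N by omega]
      · have hbig : 2 ^ 16 ≤ 2 ^ (u - 16 * N) := Nat.pow_le_pow_right (by norm_num) (by omega)
        have hN := h N (by omega)
        simp [hu2, Nat.testBit_lt_two_pow (show f N < 2 ^ (u - 16 * N) by omega)]

theorem lanes_inj {N : ℕ} {f g : ℕ → ℕ} (hf : ∀ t < N, f t < 65536) (hg : ∀ t < N, g t < 65536)
    (h : lanes N f = lanes N g) : ∀ t < N, f t = g t := by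
  intro t ht
  refine Nat.eq_of_testBit_eq fun b => ?_
  by_cases hb : b < 16
  · have e := congrArg (fun x => x.testBit (16 * t + b)) h
    simp only [testBit_lanes N f hf, testBit_lanes N g hg, show (16 * t + b) / 16 = t by omega,
      show (16 * t + b) % 16 = b by omega] at e
    simpa [ht] using e
  · have hbig : 2 ^ 16 ≤ 2 ^ b := Nat.pow_le_pow_right (by norm_num) (by omega)
    have := hf t ht; have := hg t ht
    rw [Nat.testBit_lt_two_pow (by omega), Nat.testBit_lt_two_pow (by omega)]

/-- one in every lane -/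
def ones (N : ℕ) : ℕ := ((Nat.shiftLeft 1 (16 * N)) - 1) / 65535

theorem lanes_one_mul : ∀ N, 65535 * lanes N (fun _ => 1) + 1 = 2 ^ (16 * N)
  | 0 => by simp [lanes]
  | N + 1 => by
    have h := lanes_one_mul N
    rw [show 16 * (N + 1) = 16 * N + 16 from by ring, pow_add, lanes,
      show (2 : ℕ) ^ 16 = 65536 by norm_num]
    linarith

theorem ones_eq (N : ℕ) : ones N = lanes N (fun _ => 1) := by
  have h := lanes_one_mul N
  rw [ones, Nat.shiftLeft_eq', Nat.shiftLeft_eq, one_mul, ← h, Nat.add_sub_cancel,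
    Nat.mul_div_cancel_left _ (by norm_num)]

theorem const_mul_ones (N c : ℕ) : c * ones N = lanes N (fun _ => c) := by
  rw [ones_eq, ← lanes_const_mul]
  exact lanes_congr N fun t _ => mul_one c

theorem land_const (N : ℕ) (f : ℕ → ℕ) (c : ℕ) (hf : ∀ t < N, f t < 65536) (hc : c < 65536) :
    Nat.land (lanes N f) (c * ones N) = lanes N (fun t => f t &&& c) := by
  have hfc : ∀ t < N, f t &&& c < 65536 := fun t ht =>
    lt_of_le_of_lt Nat.and_le_left (hf t ht)
  show lanes N f &&& c * ones N = _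
  refine Nat.eq_of_testBit_eq fun u => ?_
  rw [Nat.testBit_and, const_mul_ones, testBit_lanes N f hf, testBit_lanes N _ (fun _ _ => hc),
    testBit_lanes N _ hfc, Nat.testBit_and]
  cases decide (u / 16 < N) <;> simp

theorem shift_land (N : ℕ) (f : ℕ → ℕ) (k c : ℕ) (hf : ∀ t < N, f t < 65536)
    (hc : c < 2 ^ (16 - k)) (hk : k ≤ 16) :
    Nat.land (Nat.shiftRight (lanes N f) k) (c * ones N) =
      lanes N (fun t => (f t >>> k) &&& c) := by
  have hc' : c < 65536 :=
    lt_of_lt_of_le hc (le_trans (Nat.pow_le_pow_right (by norm_num) (Nat.sub_le 16 k)) (by norm_num))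
  have hfc : ∀ t < N, (f t >>> k) &&& c < 65536 := fun t _ =>
    lt_of_le_of_lt Nat.and_le_right hc'
  show (lanes N f >>> k) &&& c * ones N = _
  refine Nat.eq_of_testBit_eq fun u => ?_
  rw [Nat.testBit_and, Nat.testBit_shiftRight, const_mul_ones, testBit_lanes N f hf,
    testBit_lanes N _ (fun _ _ => hc'), testBit_lanes N _ hfc, Nat.testBit_and,
    Nat.testBit_shiftRight]
  by_cases hu : u % 16 < 16 - k
  · have h1 : (k + u) / 16 = u / 16 := by omega
    have h2 : (k + u) % 16 = k + u % 16 := by omega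
    rw [h1, h2]
    cases decide (u / 16 < N) <;> simp
  · have : c.testBit (u % 16) = false :=
      Nat.testBit_lt_two_pow (lt_of_lt_of_le hc (Nat.pow_le_pow_right (by norm_num) (by omega)))
    simp [this]

/-- first reduction -/
def red1 (one x : ℕ) : ℕ :=
  Nat.add (Nat.land x (15 * one)) (Nat.land (Nat.shiftRight x 4) (4095 * one))

/-- final reduction -/
def fin5 (one x : ℕ) : ℕ := Nat.sub x (5 * Nat.land (Nat.shiftRight (13 * x) 6) (15 * one))

/-- reduce every lane modulo five -/
def red5 (one x : ℕ) : ℕ := fin5 one (red1 one (red1 one (red1 one x)))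

theorem red1_lanes (N : ℕ) (f : ℕ → ℕ) (hf : ∀ t < N, f t < 65536) :
    red1 (ones N) (lanes N f) = lanes N (fun t => f t % 16 + f t / 16) := by
  rw [red1, land_const N f 15 hf (by norm_num), shift_land N f 4 4095 hf (by norm_num) (by norm_num)]
  show lanes N _ + lanes N _ = _
  rw [← lanes_add]
  refine lanes_congr N fun t ht => ?_
  have := hf t ht
  have h1 : f t &&& 15 = f t % 16 := Nat.and_two_pow_sub_one_eq_mod (f t) 4
  have h2 : (f t >>> 4) &&& 4095 = (f t >>> 4) % 4096 :=
    Nat.and_two_pow_sub_one_eq_mod (f t >>> 4) 12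
  show (f t &&& 15) + ((f t >>> 4) &&& 4095) = f t % 16 + f t / 16
  rw [h1, h2, Nat.shiftRight_eq_div_pow]
  omega

theorem fin5_lanes (N : ℕ) (f : ℕ → ℕ) (hf : ∀ t < N, f t ≤ 16) :
    fin5 (ones N) (lanes N f) = lanes N (fun t => f t % 5) := by
  rw [fin5]
  rw [← lanes_const_mul N 13 f, shift_land N _ 6 15 (fun t ht => by have := hf t ht; omega)
    (by norm_num) (by norm_num), ← lanes_const_mul]
  show lanes N f - lanes N _ = _
  have key : ∀ x : Fin 17, 5 * ((13 * (x : ℕ)) >>> 6 &&& 15) ≤ x ∧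
      (x : ℕ) - 5 * ((13 * (x : ℕ)) >>> 6 &&& 15) = x % 5 := by decide
  rw [lanes_sub N _ _ fun t ht => (key ⟨f t, by have := hf t ht; omega⟩).1]
  exact lanes_congr N fun t ht => (key ⟨f t, by have := hf t ht; omega⟩).2

theorem red5_lanes (N : ℕ) (f : ℕ → ℕ) (hf : ∀ t < N, f t ≤ 2048) :
    red5 (ones N) (lanes N f) = lanes N (fun t => f t % 5) := by
  rw [red5, red1_lanes N f fun t ht => by have := hf t ht; omega]
  rw [red1_lanes N _ fun t ht => by have := hf t ht; omega]
  rw [red1_lanes N _ fun t ht => by have := hf t ht; omega]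
  rw [fin5_lanes N _ fun t ht => by have := hf t ht; omega]
  exact lanes_congr N fun t ht => by omega

end Cfsg.Agent.Lib.LyMat14
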