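import Cfsg.Agent.Lib.LyMat14.Lanes

/-!
Square matrices over the field with five elements as packed numbers, with a product by packed rows.
-/

set_option autoImplicit false

namespace Cfsg.Agent.Lib.LyMat14

open Finset

theorem lanes_eq_sum : ∀ N (f : ℕ → ℕ), lanes N f = ∑ t ∈ range N, 2 ^ (16 * t) * f t
  | 0, _ => by simp [lanes]
  | N + 1, f => by rw [Finset.sum_range_succ, lanes, lanes_eq_sum N f]

theorem sum_range_mul (n : ℕ) : ∀ m (F : ℕ → ℕ),
    ∑ t ∈ range (m * n), F t = ∑ i ∈ range m, ∑ k ∈ range n, F (i * n + k)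
  | 0, _ => by simp
  | m + 1, F => by
    rw [Finset.sum_range_succ, ← sum_range_mul n m F, Nat.succ_mul, Finset.sum_range_add]

/-- the number with `n` rows of `n` lanes -/
def grid (n : ℕ) (F : ℕ → ℕ → ℕ) : ℕ := lanes (n * n) (fun t => F (t / n) (t % n))

theorem grid_eq_sum (n : ℕ) (F : ℕ → ℕ → ℕ) :
    grid n F = ∑ i ∈ range n, 2 ^ (16 * (i * n)) * lanes n (F i) := by
  rw [grid, lanes_eq_sum, sum_range_mul]
  refine Finset.sum_congr rfl fun i _ => ?_
  rw [lanes_eq_sum, Finset.mul_sum]
  refine Finset.sum_congr rfl fun k hk => ?_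
  have hk' := Finset.mem_range.1 hk
  rw [← mul_assoc, ← pow_add, Nat.add_comm (i * n) k, Nat.add_mul_div_right _ _ (by omega),
    Nat.add_mul_mod_self_right, Nat.div_eq_of_lt hk', Nat.mod_eq_of_lt hk', zero_add]
  ring_nf

/-- mask selecting the first lane of every row -/
def colMask (n : ℕ) : ℕ :=
  65535 * ((Nat.shiftLeft 1 (16 * n * n) - 1) / (Nat.shiftLeft 1 (16 * n) - 1))

/-- the packed identity -/
def idPack (n : ℕ) : ℕ :=
  (Nat.shiftLeft 1 (16 * (n + 1) * n) - 1) / (Nat.shiftLeft 1 (16 * (n + 1)) - 1)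

theorem geom_div (a m : ℕ) (ha : 0 < a) :
    (Nat.shiftLeft 1 (a * m) - 1) / (Nat.shiftLeft 1 a - 1) = ∑ i ∈ range m, 2 ^ (a * i) := by
  have h : ∀ m, (2 ^ a - 1) * ∑ i ∈ range m, 2 ^ (a * i) + 1 = 2 ^ (a * m) := by
    intro m
    induction m with
    | zero => simp
    | succ m ih =>
      have h1 : 2 ^ a = (2 ^ a - 1) + 1 := (Nat.sub_add_cancel Nat.one_le_two_pow).symm
      rw [Finset.sum_range_succ, Nat.mul_add, show a * (m + 1) = a * m + a by ring, pow_add]
      conv_rhs => rw [h1]
      rw [Nat.mul_add (2 ^ (a * m)), mul_one, mul_comm (2 ^ (a * m))]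
      linarith
  simp only [Nat.shiftLeft_eq', Nat.shiftLeft_eq, one_mul]
  rw [← h m, Nat.add_sub_cancel, Nat.mul_div_cancel_left _ ?_]
  have : 2 ^ 1 ≤ 2 ^ a := Nat.pow_le_pow_right (by norm_num) ha
  omega

theorem colMask_eq (n : ℕ) :
    colMask n = grid n (fun _ k => if k = 0 then 65535 else 0) := by
  rcases Nat.eq_zero_or_pos n with rfl | hn
  · simp [colMask, grid, lanes, Nat.shiftLeft_eq]
  rw [colMask, geom_div (16 * n) n (by omega), grid_eq_sum, Finset.mul_sum]
  refine Finset.sum_congr rfl fun i _ => ?_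
  rw [lanes_eq_sum, Finset.sum_eq_single 0 (fun b _ hb => by simp [hb])
    (fun h => absurd (Finset.mem_range.2 hn) h)]
  simp only [if_true]
  rw [mul_zero, pow_zero, one_mul, show 16 * (i * n) = 16 * n * i by ring]
  ring

theorem idPack_eq (n : ℕ) : idPack n = grid n (fun i k => if i = k then 1 else 0) := by
  rw [idPack, geom_div (16 * (n + 1)) n (by omega), grid_eq_sum]
  refine Finset.sum_congr rfl fun i hi => ?_
  rw [lanes_eq_sum, Finset.sum_eq_single i (fun b _ hb => by simp [Ne.symm hb])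
    (fun h => absurd hi h), if_pos rfl, mul_one, ← pow_add]
  ring_nf

theorem grid_idx {n : ℕ} {i k : ℕ} (hi : i < n) (hk : k < n) :
    i * n + k < n * n ∧ (i * n + k) / n = i ∧ (i * n + k) % n = k := by
  refine ⟨?_, ?_, ?_⟩
  · calc i * n + k < i * n + n := by omega
      _ = (i + 1) * n := by ring
      _ ≤ n * n := Nat.mul_le_mul_right n hi
  · rw [Nat.add_comm, Nat.add_mul_div_right _ _ (by omega), Nat.div_eq_of_lt hk, zero_add]
  · rw [Nat.add_comm, Nat.add_mul_mod_self_right, Nat.mod_eq_of_lt hk]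

theorem grid_lanes_lt {n : ℕ} {F : ℕ → ℕ → ℕ} {b : ℕ} (hF : ∀ i < n, ∀ k < n, F i k < b) :
    ∀ t < n * n, F (t / n) (t % n) < b := fun t ht => by
  have hn : 0 < n := by rcases Nat.eq_zero_or_pos n with rfl | h <;> simp_all
  exact hF _ (Nat.div_lt_of_lt_mul ht) _ (Nat.mod_lt _ hn)

theorem grid_col (n : ℕ) (F : ℕ → ℕ → ℕ) (j : ℕ) (hj : j < n)
    (hF : ∀ i < n, ∀ k < n, F i k < 65536) :
    Nat.land (Nat.shiftRight (grid n F) (16 * j)) (colMask n) =
      grid n (fun i k => if k = 0 then F i j else 0) := by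
  rw [colMask_eq]
  show (grid n F >>> (16 * j)) &&& _ = _
  refine Nat.eq_of_testBit_eq fun u => ?_
  rw [Nat.testBit_and, Nat.testBit_shiftRight, grid, grid, grid,
    testBit_lanes _ _ (grid_lanes_lt hF),
    testBit_lanes _ _ (fun t _ => by split <;> norm_num),
    testBit_lanes _ _ (grid_lanes_lt (F := fun i k => if k = 0 then F i j else 0) fun i hi k _ => by
      split
      · exact hF i hi j hj
      · norm_num)]
  by_cases hu : u / 16 < n * n
  · by_cases h0 : u / 16 % n = 0
    · have hi : u / 16 / n < n := Nat.div_lt_of_lt_mul hu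
      obtain ⟨h1, h2, h3⟩ := grid_idx hi hj
      have e : u / 16 = u / 16 / n * n := by
        have := Nat.div_add_mod (u / 16) n
        rw [h0, add_zero, mul_comm] at this
        exact this.symm
      have e1 : (16 * j + u) / 16 = u / 16 / n * n + j := by omega
      have e2 : (16 * j + u) % 16 = u % 16 := by omega
      have hb : (65535 : ℕ).testBit (u % 16) = true := by
        rw [show (65535 : ℕ) = 2 ^ 16 - 1 by norm_num, Nat.testBit_two_pow_sub_one]
        simp [Nat.mod_lt u (show 16 > 0 by norm_num)]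
      simp [hu, h0, e1, e2, h1, h2, h3, hb]
    · simp [hu, h0]
  · simp [hu]

/-- lane `k` of a packed row -/
def lane (r k : ℕ) : ℕ := Nat.shiftRight r (16 * k) % 65536

theorem eq_lanes : ∀ n r, r < 2 ^ (16 * n) → r = lanes n (lane r)
  | 0, r, h => by simpa [lanes] using h
  | n + 1, r, h => by
    have hlt : r % 2 ^ (16 * n) < 2 ^ (16 * n) := Nat.mod_lt _ (by positivity)
    have ih := eq_lanes n _ hlt
    have hsame : ∀ t < n, lane (r % 2 ^ (16 * n)) t = lane r t := fun t ht => by
      simp only [lane, Nat.shiftRight_eq', Nat.shiftRight_eq_div_pow]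
      have e : 16 * n = 16 * t + 16 * (n - t) := by omega
      rw [e, pow_add, Nat.mod_mul_right_div_self,
        show 16 * (n - t) = 16 + 16 * (n - t - 1) by omega, pow_add,
        show (65536 : ℕ) = 2 ^ 16 by norm_num, Nat.mod_mul_right_mod]
    rw [lanes_congr n hsame] at ih
    have hq : r / 2 ^ (16 * n) < 65536 := by
      refine Nat.div_lt_of_lt_mul ?_
      rwa [show 16 * (n + 1) = 16 * n + 16 by ring, pow_add] at h
    rw [lanes, ← ih, lane, Nat.shiftRight_eq', Nat.shiftRight_eq_div_pow, Nat.mod_eq_of_lt hq]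
    exact (Nat.mod_add_div r _).symm

/-- sum of columns of `a` times the rows -/
def mulRows (cm : ℕ) : List ℕ → ℕ → ℕ
  | [], _ => 0
  | r :: rs, a => Nat.add (Nat.land a cm * r) (mulRows cm rs (Nat.shiftRight a 16))

theorem mulRows_eq (cm : ℕ) : ∀ rs a, mulRows cm rs a =
    ∑ j ∈ range rs.length, Nat.land (Nat.shiftRight a (16 * j)) cm * rs.getD j 0
  | [], _ => by simp [mulRows]
  | r :: rs, a => by
    rw [List.length_cons, Finset.sum_range_succ', mulRows, mulRows_eq cm rs]
    simp only [Nat.add_eq, List.getD_cons_zero, List.getD_cons_succ, mul_zero,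
      Nat.shiftRight_eq', Nat.shiftRight_zero, ← Nat.shiftRight_add]
    rw [Nat.add_comm]
    congr 1
    refine Finset.sum_congr rfl fun j _ => ?_
    rw [show 16 + 16 * j = 16 * (j + 1) by ring]

/-- one product followed by reduction -/
def mulStep (one cm : ℕ) (rs : List ℕ) (a : ℕ) : ℕ := red5 one (mulRows cm rs a)

theorem mulStep_grid (n : ℕ) (hn : n ≤ 128) (F : ℕ → ℕ → ℕ) (hF : ∀ i < n, ∀ k < n, F i k ≤ 4)
    (rs : List ℕ) (hlen : rs.length = n) (hr : ∀ j < n, rs.getD j 0 < 2 ^ (16 * n))
    (hl : ∀ j < n, ∀ k < n, lane (rs.getD j 0) k ≤ 4) :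
    mulStep (ones (n * n)) (colMask n) rs (grid n F) =
      grid n (fun i k => (∑ j ∈ range n, F i j * lane (rs.getD j 0) k) % 5) := by
  have hsum : mulRows (colMask n) rs (grid n F) =
      grid n (fun i k => ∑ j ∈ range n, F i j * lane (rs.getD j 0) k) := by
    rw [mulRows_eq, hlen, grid_eq_sum n (fun i k => ∑ j ∈ range n, F i j * lane (rs.getD j 0) k)]
    calc _ = ∑ j ∈ range n, ∑ i ∈ range n,
          2 ^ (16 * (i * n)) * lanes n (fun k => F i j * lane (rs.getD j 0) k) := by
            refine Finset.sum_congr rfl fun j hj => ?_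
            have hj' := Finset.mem_range.1 hj
            rw [grid_col n F j hj' (fun i hi k hk => by have := hF i hi k hk; omega), grid_eq_sum,
              Finset.sum_mul]
            refine Finset.sum_congr rfl fun i _ => ?_
            rw [lanes_eq_sum n (fun k => if k = 0 then F i j else 0),
              Finset.sum_eq_single 0 (fun b _ hb => by simp [hb])
                (fun h => absurd (Finset.mem_range.2 (by omega)) h), if_pos rfl,
              lanes_const_mul, ← eq_lanes n _ (hr j hj')]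
            ring
      _ = ∑ i ∈ range n, ∑ j ∈ range n,
          2 ^ (16 * (i * n)) * lanes n (fun k => F i j * lane (rs.getD j 0) k) := Finset.sum_comm
      _ = _ := by
            refine Finset.sum_congr rfl fun i _ => ?_
            simp only [lanes_eq_sum, Finset.mul_sum]
            rw [Finset.sum_comm]
  rw [mulStep, hsum, grid, red5_lanes, grid]
  refine grid_lanes_lt (F := fun i k => ∑ j ∈ range n, F i j * lane (rs.getD j 0) k) (b := 2049) ?_
    |> fun h t ht => Nat.lt_succ_iff.1 (h t ht)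
  intro i hi k hk
  have : ∑ j ∈ range n, F i j * lane (rs.getD j 0) k ≤ ∑ _j ∈ range n, 16 := by
    refine Finset.sum_le_sum fun j hj => ?_
    have hj' := Finset.mem_range.1 hj
    calc F i j * lane (rs.getD j 0) k ≤ 4 * 4 := Nat.mul_le_mul (hF i hi j hj') (hl j hj' k hk)
      _ = 16 := rfl
  simp only [Finset.sum_const, Finset.card_range, smul_eq_mul] at this
  omega

end Cfsg.Agent.Lib.LyMat14
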