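import Cfsg.Agent.Lib.LyMat14.Data

/-!
The representation of the presented Lyons group by 111-dimensional matrices modulo five, elements of
orders 11, 37 and 67, and elements moving the subspace invariant under <a, b, c, d>.
-/

set_option autoImplicit false

namespace Cfsg.Agent.Lib.LyMat14

open Cfsg.Spor

theorem ly_good : Good 111 lyGens lyInv where
  le := by norm_num
  gens_good := by decide +kernel
  inv_good := by decide +kernel

theorem all_good : gensGood 111 lyAll = true := by decide +kernel

/-- reversed inverse word -/
def invWord (w : List ℕ) : List ℕ := w.reverse.map fun k => lyInv.getD k 0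

/-- flatten a signed word of presentation letters -/
def flat : List (Ly.Gen × Bool) → List ℕ
  | [] => []
  | (g, true) :: l => img g ++ flat l
  | (g, false) :: l => invWord (img g) ++ flat l

theorem rel_check : (Ly.extra.all fun r => wordEq 111 lyGens (flat r.toWord) []) = true := by
  decide +kernel

theorem unit_invLetter {k : ℕ} (hk : k < 10) :
    unit ly_good (lyInv.getD k 0) = (unit ly_good k)⁻¹ := by
  have h2 : lyInv.getD k 0 < lyGens.length := by
    have : ∀ j : Fin 10, lyInv.getD j 0 < lyGens.length := by decide +kernel
    exact this ⟨k, hk⟩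
  refine eq_inv_of_mul_eq_one_left (Units.ext ?_)
  rw [Units.val_mul, unit, unit, dif_pos (show k < lyGens.length from hk), dif_pos h2, Units.val_one]
  exact (inv_mul ly_good (show k < lyGens.length from hk)).2

theorem wunit_invWord : ∀ w : List ℕ, (∀ k ∈ w, k < 10) →
    wunit ly_good (invWord w) = (wunit ly_good w)⁻¹
  | [], _ => by simp [invWord, wunit]
  | k :: w, h => by
    have e : invWord (k :: w) = invWord w ++ [lyInv.getD k 0] := by simp [invWord]
    rw [e, wunit_append, wunit_invWord w fun j hj => h j (List.mem_cons_of_mem _ hj),
      show wunit ly_good [lyInv.getD k 0] = unit ly_good (lyInv.getD k 0) by simp [wunit],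
      unit_invLetter (h k (List.mem_cons_self ..))]
    simp [wunit, mul_inv_rev]

theorem img_lt (g : Ly.Gen) : ∀ k ∈ img g, k < 10 := by
  have : (img g).all (fun k => Nat.blt k 10) = true := by cases g <;> decide +kernel
  intro k hk
  simpa [Nat.blt_eq] using List.all_eq_true.1 this k hk

/-- image of a generator -/
def genImg (g : Ly.Gen) : MatUnits 111 := wunit ly_good (img g)

theorem wunit_flat : ∀ l : List (Ly.Gen × Bool),
    wunit ly_good (flat l) = FreeGroup.lift genImg (FreeGroup.mk l)
  | [] => by simp [flat, wunit, ← FreeGroup.one_eq_mk]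
  | (g, true) :: l => by
    rw [flat, wunit_append, wunit_flat l, FreeGroup.lift_mk, FreeGroup.lift_mk]
    simp [genImg]
  | (g, false) :: l => by
    rw [flat, wunit_append, wunit_invWord _ (img_lt g), wunit_flat l, FreeGroup.lift_mk,
      FreeGroup.lift_mk]
    simp [genImg]

theorem rels_hold : ∀ r ∈ coxRelators Ly.edges ∪ {r | r ∈ Ly.extra}, FreeGroup.lift genImg r = 1 := by
  rintro r (hr | hr)
  · simp [coxRelators, coxNodes, Ly.edges] at hr
  · have h := List.all_eq_true.1 rel_check r hr
    have e := wunit_eq ly_good h
    rw [wunit_flat, FreeGroup.mk_toWord] at e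
    simpa [wunit] using e

/-- the representation -/
def rho : Cfsg.Spor.Ly →* MatUnits 111 := PresentedGroup.toGroup rels_hold

theorem rho_of (g : Ly.Gen) : rho (PresentedGroup.of g) = wunit ly_good (img g) :=
  PresentedGroup.toGroup.of rels_hold

end Cfsg.Agent.Lib.LyMat14
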