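import Cfsg.Agent.Lib.LyMat14.Mat

/-!
Words in packed matrices over the field with five elements: evaluation and soundness of the checks.
-/

set_option autoImplicit false

namespace Cfsg.Agent.Lib.LyMat14

open Finset

variable {n : ℕ}

/-- a packed number represents a matrix -/
def Rep (n a : ℕ) (M : Matrix (Fin n) (Fin n) (ZMod 5)) : Prop :=
  ∃ F : ℕ → ℕ → ℕ, (∀ i < n, ∀ k < n, F i k ≤ 4) ∧ a = grid n F ∧
    ∀ i k : Fin n, (F i k : ZMod 5) = M i k

/-- a packed number represents a row vector -/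
def VRep (n a : ℕ) (x : Fin n → ZMod 5) : Prop :=
  ∃ f : ℕ → ℕ, (∀ k < n, f k ≤ 4) ∧ a = lanes n f ∧ ∀ k : Fin n, (f k : ZMod 5) = x k

theorem small_inj {a b : ℕ} (ha : a ≤ 4) (hb : b ≤ 4) (h : (a : ZMod 5) = b) : a = b := by
  have := (ZMod.natCast_eq_natCast_iff' a b 5).1 h
  omega

theorem Rep.mat_unique {a : ℕ} {M M' : Matrix (Fin n) (Fin n) (ZMod 5)} (h : Rep n a M)
    (h' : Rep n a M') : M = M' := by
  obtain ⟨F, hF, rfl, hM⟩ := h
  obtain ⟨G, hG, he, hM'⟩ := h'
  ext i k
  obtain ⟨h1, h2, h3⟩ := grid_idx i.2 k.2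
  have := lanes_inj (grid_lanes_lt (F := F) (b := 65536) fun i hi k hk => by
      have := hF i hi k hk; omega)
    (grid_lanes_lt (F := G) (b := 65536) fun i hi k hk => by have := hG i hi k hk; omega) he _ h1
  rw [h2, h3] at this
  rw [← hM, ← hM', this]

theorem Rep.num_unique {a a' : ℕ} {M : Matrix (Fin n) (Fin n) (ZMod 5)} (h : Rep n a M)
    (h' : Rep n a' M) : a = a' := by
  obtain ⟨F, hF, rfl, hM⟩ := h
  obtain ⟨G, hG, rfl, hM'⟩ := h'
  refine lanes_congr _ fun t ht => ?_
  have hn : 0 < n := by rcases Nat.eq_zero_or_pos n with rfl | h <;> simp_all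
  have hi := Nat.div_lt_of_lt_mul ht
  have hk := Nat.mod_lt t hn
  exact small_inj (hF _ hi _ hk) (hG _ hi _ hk)
    ((hM ⟨_, hi⟩ ⟨_, hk⟩).trans (hM' ⟨_, hi⟩ ⟨_, hk⟩).symm)

theorem VRep.num_unique {a a' : ℕ} {x : Fin n → ZMod 5} (h : VRep n a x) (h' : VRep n a' x) :
    a = a' := by
  obtain ⟨f, hf, rfl, hx⟩ := h
  obtain ⟨g, hg, rfl, hx'⟩ := h'
  exact lanes_congr _ fun t ht =>
    small_inj (hf t ht) (hg t ht) ((hx ⟨t, ht⟩).trans (hx' ⟨t, ht⟩).symm)

theorem VRep.vec_unique {a : ℕ} {x y : Fin n → ZMod 5} (h : VRep n a x) (h' : VRep n a y) :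
    x = y := by
  obtain ⟨f, hf, rfl, hx⟩ := h
  obtain ⟨g, hg, he, hy⟩ := h'
  funext k
  rw [← hx, ← hy, lanes_inj (fun t ht => by have := hf t ht; omega)
    (fun t ht => by have := hg t ht; omega) he k k.2]

/-- `r` is below the bound and all its lanes are below five, checked on all lanes at once -/
def rowGood (n r : ℕ) : Bool :=
  decide (r < 2 ^ (16 * n)) && Nat.beq (Nat.land r (7 * ones n)) r &&
    Nat.beq (Nat.land (r + 3 * ones n) (7 * ones n)) (r + 3 * ones n)

theorem rowGood_spec {n r : ℕ} (h : rowGood n r = true) :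
    r < 2 ^ (16 * n) ∧ ∀ k < n, lane r k ≤ 4 := by
  simp only [rowGood, Bool.and_eq_true, decide_eq_true_eq] at h
  obtain ⟨⟨hr, h1⟩, h2⟩ := h
  refine ⟨hr, fun k hk => ?_⟩
  have hf : ∀ t < n, lane r t < 65536 := fun t _ => Nat.mod_lt _ (by norm_num)
  have e1 := Nat.eq_of_beq_eq_true h1
  rw [eq_lanes n r hr, land_const n _ 7 hf (by norm_num)] at e1
  have hand : ∀ x : ℕ, x &&& 7 = x % 8 := fun x => Nat.and_two_pow_sub_one_eq_mod x 3
  have h8 : ∀ t < n, lane r t < 8 := fun t ht => by
    have := lanes_inj (fun t _ => lt_of_le_of_lt Nat.and_le_right (by norm_num)) hf e1 t ht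
    rw [hand] at this
    omega
  have e2 := Nat.eq_of_beq_eq_true h2
  rw [eq_lanes n r hr, const_mul_ones n 3, ← lanes_add,
    land_const n _ 7 (fun t ht => by have := h8 t ht; omega) (by norm_num)] at e2
  have := lanes_inj (fun t _ => lt_of_le_of_lt Nat.and_le_right (by norm_num))
    (fun t ht => by have := h8 t ht; omega) e2 k hk
  rw [hand] at this
  omega

/-- the packed rows have `n` rows of `n` lanes below five -/
def rowsGood (n : ℕ) (rs : List ℕ) : Bool := rs.length == n && rs.all (rowGood n)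

/-- the matrix of packed rows -/
def matOf (n : ℕ) (rs : List ℕ) : Matrix (Fin n) (Fin n) (ZMod 5) :=
  fun i k => (lane (rs.getD i 0) k : ZMod 5)

theorem rowsGood_spec {n : ℕ} {rs : List ℕ} (h : rowsGood n rs = true) :
    rs.length = n ∧ ∀ j < n, rs.getD j 0 < 2 ^ (16 * n) ∧ ∀ k < n, lane (rs.getD j 0) k ≤ 4 := by
  simp only [rowsGood, Bool.and_eq_true, beq_iff_eq, List.all_eq_true] at h
  obtain ⟨hlen, hall⟩ := h
  refine ⟨hlen, fun j hj => ?_⟩
  have hmem : rs.getD j 0 ∈ rs := by
    rw [List.getD_eq_getElem _ _ (by omega)]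
    exact List.getElem_mem _
  exact rowGood_spec (hall _ hmem)

theorem rep_id (n : ℕ) : Rep n (idPack n) 1 :=
  ⟨fun i k => if i = k then 1 else 0, fun i _ k _ => by dsimp only; split <;> norm_num,
    idPack_eq n, fun i k => by by_cases h : i = k <;> simp [h, Matrix.one_apply, Fin.val_inj]⟩

theorem Rep.mul (hn : n ≤ 128) {a : ℕ} {M : Matrix (Fin n) (Fin n) (ZMod 5)} (h : Rep n a M)
    {rs : List ℕ} (hr : rowsGood n rs = true) :
    Rep n (mulStep (ones (n * n)) (colMask n) rs a) (M * matOf n rs) := by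
  obtain ⟨F, hF, rfl, hM⟩ := h
  obtain ⟨hlen, hrs⟩ := rowsGood_spec hr
  refine ⟨_, fun i _ k _ => ?_, mulStep_grid n hn F hF rs hlen (fun j hj => (hrs j hj).1)
    (fun j hj => (hrs j hj).2), fun i k => ?_⟩
  · exact Nat.le_of_lt_succ (Nat.mod_lt _ (by norm_num))
  · rw [ZMod.natCast_mod, Nat.cast_sum, Matrix.mul_apply, Finset.sum_range]
    exact Finset.sum_congr rfl fun j _ => by rw [Nat.cast_mul, hM]; rfl

/-- one vector times packed rows -/
def vecStep (one : ℕ) (rs : List ℕ) (v : ℕ) : ℕ := red5 one (mulRows 65535 rs v)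

theorem VRep.mul (hn : n ≤ 128) {a : ℕ} {x : Fin n → ZMod 5} (h : VRep n a x) {rs : List ℕ}
    (hr : rowsGood n rs = true) :
    VRep n (vecStep (ones n) rs a) (Matrix.vecMul x (matOf n rs)) := by
  obtain ⟨f, hf, rfl, hx⟩ := h
  obtain ⟨hlen, hrs⟩ := rowsGood_spec hr
  have hsum : mulRows 65535 rs (lanes n f) =
      lanes n (fun k => ∑ j ∈ range n, f j * lane (rs.getD j 0) k) := by
    rw [mulRows_eq, hlen]
    calc _ = ∑ j ∈ range n, lanes n (fun k => f j * lane (rs.getD j 0) k) := by
          refine Finset.sum_congr rfl fun j hj => ?_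
          have hj' := Finset.mem_range.1 hj
          have e : Nat.land (Nat.shiftRight (lanes n f) (16 * j)) 65535 = f j := by
            show (lanes n f >>> (16 * j)) &&& 65535 = f j
            refine Nat.eq_of_testBit_eq fun u => ?_
            rw [Nat.testBit_and, Nat.testBit_shiftRight,
              testBit_lanes n f (fun t ht => by have := hf t ht; omega),
              show (65535 : ℕ) = 2 ^ 16 - 1 by norm_num, Nat.testBit_two_pow_sub_one]
            by_cases hu : u < 16
            · simp [hu, show (16 * j + u) / 16 = j by omega, show (16 * j + u) % 16 = u by omega, hj']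
            · have hb : 2 ^ 16 ≤ 2 ^ u := Nat.pow_le_pow_right (by norm_num) (by omega)
              have := hf j hj'
              simp [hu, Nat.testBit_lt_two_pow (show f j < 2 ^ u by omega)]
          rw [e, lanes_const_mul, ← eq_lanes n _ (hrs j hj').1]
      _ = _ := by
          simp only [lanes_eq_sum, Finset.mul_sum]
          rw [Finset.sum_comm]
  refine ⟨fun k => (∑ j ∈ range n, f j * lane (rs.getD j 0) k) % 5,
    fun k _ => by dsimp only; omega, ?_, fun k => ?_⟩
  · rw [vecStep, hsum, red5_lanes]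
    intro k hk
    have : ∑ j ∈ range n, f j * lane (rs.getD j 0) k ≤ ∑ _j ∈ range n, 16 :=
      Finset.sum_le_sum fun j hj => by
        have hj' := Finset.mem_range.1 hj
        calc f j * lane (rs.getD j 0) k ≤ 4 * 4 := Nat.mul_le_mul (hf j hj') ((hrs j hj').2 k hk)
          _ = 16 := rfl
    simp only [Finset.sum_const, Finset.card_range, smul_eq_mul] at this
    omega
  · rw [ZMod.natCast_mod, Nat.cast_sum, Matrix.vecMul, dotProduct, Finset.sum_range]
    exact Finset.sum_congr rfl fun j _ => by rw [Nat.cast_mul, hx]; rfl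

/-- generator `k` of a list -/
def gen (gens : List (List ℕ)) (k : ℕ) : List ℕ := gens.getD k []

/-- value of a word -/
def evalW (one cm : ℕ) (gens : List (List ℕ)) : List ℕ → ℕ → ℕ
  | [], a => a
  | k :: w, a => evalW one cm gens w (mulStep one cm (gen gens k) a)

/-- image of a vector under a word -/
def evalV (one : ℕ) (gens : List (List ℕ)) : List ℕ → ℕ → ℕ
  | [], a => a
  | k :: w, a => evalV one gens w (vecStep one (gen gens k) a)

/-- all generators are well formed -/
def gensGood (n : ℕ) (gens : List (List ℕ)) : Bool := gens.all (rowsGood n)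

/-- letters in range -/
def wordGood (gens : List (List ℕ)) (w : List ℕ) : Bool :=
  w.all fun k => Nat.blt k gens.length

/-- matrix of a word -/
def wmat (n : ℕ) (gens : List (List ℕ)) (w : List ℕ) : Matrix (Fin n) (Fin n) (ZMod 5) :=
  (w.map fun k => matOf n (gen gens k)).prod

theorem gen_good {gens : List (List ℕ)} (hg : gensGood n gens = true) {k : ℕ}
    (hk : k < gens.length) : rowsGood n (gen gens k) = true :=
  List.all_eq_true.1 hg _ (by rw [gen, List.getD_eq_getElem _ _ hk]; exact List.getElem_mem _)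

theorem rep_evalW (hn : n ≤ 128) {gens : List (List ℕ)} (hg : gensGood n gens = true) :
    ∀ {w : List ℕ}, wordGood gens w = true → ∀ {a : ℕ} {M : Matrix (Fin n) (Fin n) (ZMod 5)},
      Rep n a M → Rep n (evalW (ones (n * n)) (colMask n) gens w a) (M * wmat n gens w)
  | [], _, a, M, h => by simpa [evalW, wmat] using h
  | k :: w, hw, a, M, h => by
    simp only [wordGood, List.all_cons, Bool.and_eq_true, Nat.blt_eq] at hw
    have := rep_evalW hn hg (w := w) hw.2 (h.mul hn (gen_good hg hw.1))
    simpa [evalW, wmat, Matrix.mul_assoc] using this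

theorem vrep_evalV (hn : n ≤ 128) {gens : List (List ℕ)} (hg : gensGood n gens = true) :
    ∀ {w : List ℕ}, wordGood gens w = true → ∀ {a : ℕ} {x : Fin n → ZMod 5},
      VRep n a x → VRep n (evalV (ones n) gens w a) (Matrix.vecMul x (wmat n gens w))
  | [], _, a, x, h => by simpa [evalV, wmat] using h
  | k :: w, hw, a, x, h => by
    simp only [wordGood, List.all_cons, Bool.and_eq_true, Nat.blt_eq] at hw
    have := vrep_evalV hn hg (w := w) hw.2 (h.mul hn (gen_good hg hw.1))
    simpa [evalV, wmat, Matrix.vecMul_vecMul] using this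

/-- two words agree -/
def wordEq (n : ℕ) (gens : List (List ℕ)) (w v : List ℕ) : Bool :=
  wordGood gens w && wordGood gens v &&
    Nat.beq (evalW (ones (n * n)) (colMask n) gens w (idPack n))
      (evalW (ones (n * n)) (colMask n) gens v (idPack n))

/-- two words differ -/
def wordNe (n : ℕ) (gens : List (List ℕ)) (w v : List ℕ) : Bool :=
  wordGood gens w && wordGood gens v &&
    !(Nat.beq (evalW (ones (n * n)) (colMask n) gens w (idPack n))
      (evalW (ones (n * n)) (colMask n) gens v (idPack n)))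

theorem wmat_eq (hn : n ≤ 128) {gens : List (List ℕ)} (hg : gensGood n gens = true) {w v : List ℕ}
    (h : wordEq n gens w v = true) : wmat n gens w = wmat n gens v := by
  simp only [wordEq, Bool.and_eq_true] at h
  have h1 := rep_evalW hn hg h.1.1 (rep_id n)
  have h2 := rep_evalW hn hg h.1.2 (rep_id n)
  rw [Nat.eq_of_beq_eq_true h.2, one_mul] at h1
  rw [one_mul] at h2
  exact h1.mat_unique h2

theorem wmat_ne (hn : n ≤ 128) {gens : List (List ℕ)} (hg : gensGood n gens = true) {w v : List ℕ}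
    (h : wordNe n gens w v = true) : wmat n gens w ≠ wmat n gens v := by
  simp only [wordNe, Bool.and_eq_true, Bool.not_eq_true'] at h
  intro e
  have h1 := rep_evalW hn hg h.1.1 (rep_id n)
  have h2 := rep_evalW hn hg h.1.2 (rep_id n)
  rw [one_mul, e] at h1
  rw [one_mul] at h2
  rw [h1.num_unique h2] at h
  simp at h

/-- well-formed packed vector -/
def vecGood (n v : ℕ) : Bool := rowGood n v

/-- the vector of a packed number -/
def vecOf (n v : ℕ) : Fin n → ZMod 5 := fun k => (lane v k : ZMod 5)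

theorem vrep_vecOf {v : ℕ} (h : vecGood n v = true) : VRep n v (vecOf n v) := by
  obtain ⟨h1, h2⟩ := rowGood_spec h
  exact ⟨lane v, h2, eq_lanes n v h1, fun _ => rfl⟩

/-- a word fixes a packed vector -/
def vecFixed (n : ℕ) (gens : List (List ℕ)) (w : List ℕ) (v : ℕ) : Bool :=
  wordGood gens w && vecGood n v && Nat.beq (evalV (ones n) gens w v) v

/-- a word moves a packed vector -/
def vecMoved (n : ℕ) (gens : List (List ℕ)) (w : List ℕ) (v : ℕ) : Bool :=
  wordGood gens w && vecGood n v && !(Nat.beq (evalV (ones n) gens w v) v)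

theorem vecMul_fixed (hn : n ≤ 128) {gens : List (List ℕ)} (hg : gensGood n gens = true)
    {w : List ℕ} {v : ℕ} (h : vecFixed n gens w v = true) :
    Matrix.vecMul (vecOf n v) (wmat n gens w) = vecOf n v := by
  simp only [vecFixed, Bool.and_eq_true] at h
  have h1 := vrep_evalV hn hg h.1.1 (vrep_vecOf h.1.2)
  rw [Nat.eq_of_beq_eq_true h.2] at h1
  exact h1.vec_unique (vrep_vecOf h.1.2)

theorem vecMul_moved (hn : n ≤ 128) {gens : List (List ℕ)} (hg : gensGood n gens = true)
    {w : List ℕ} {v : ℕ} (h : vecMoved n gens w v = true) :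
    Matrix.vecMul (vecOf n v) (wmat n gens w) ≠ vecOf n v := by
  simp only [vecMoved, Bool.and_eq_true, Bool.not_eq_true'] at h
  intro e
  have h1 := vrep_evalV hn hg h.1.1 (vrep_vecOf h.1.2)
  rw [e] at h1
  rw [h1.num_unique (vrep_vecOf h.1.2)] at h
  simp at h

end Cfsg.Agent.Lib.LyMat14
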